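import Groth.Prelude.Def_GrSyz
import Mathlib

/-! Dimension of the graded pieces of a polynomial ring (standard grading indexed by `ℤ`). -/

universe u

open Module

namespace Groth.Agent.Helper7.GrSyzHilb

theorem weight_one (r : ℕ) (β : Fin (r + 1) →₀ ℕ) :
    Finsupp.weight (fun _ : Fin (r + 1) => (1 : ℤ)) β = ((∑ i, β i : ℕ) : ℤ) := by
  rw [Finsupp.weight_apply, Finsupp.sum_fintype _ _ (by simp)]
  simp

theorem finrank_stdGr (k : Type u) [Field k] (r : ℕ) (e : ℤ) :
    finrank k (GrSyz.stdGr k (Fin (r + 1)) e) =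
      if 0 ≤ e then Nat.choose (r + e.toNat) r else 0 := by
  unfold GrSyz.stdGr
  rw [MvPolynomial.weightedHomogeneousSubmodule_eq_finsupp_supported]
  change finrank k (MvPolynomial.restrictSupport k _) = _
  rw [Module.finrank_eq_nat_card_basis
    (MvPolynomial.basisRestrictSupport k
      {d : Fin (r + 1) →₀ ℕ | Finsupp.weight (fun _ : Fin (r + 1) => (1 : ℤ)) d = e})]
  split_ifs with he
  · obtain ⟨n, rfl⟩ := Int.eq_ofNat_of_zero_le he
    have hset : {d : Fin (r + 1) →₀ ℕ | Finsupp.weight (fun _ : Fin (r + 1) => (1 : ℤ)) d = (n : ℤ)} =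
        ((Finset.univ : Finset (Fin (r + 1))).finsuppAntidiag n : Set (Fin (r + 1) →₀ ℕ)) := by
      ext β
      simp only [Set.mem_ofPred_eq, weight_one, Finset.mem_coe, Finset.mem_finsuppAntidiag,
        Finset.subset_univ, and_true]
      exact_mod_cast Iff.rfl
    rw [hset, Nat.card_coe_set_eq, Set.ncard_coe_finset,
      Finset.card_finsuppAntidiag_nat_eq_choose]
    simp only [Finset.card_univ, Fintype.card_fin, Int.toNat_natCast]
    rw [show r + 1 + n - 1 = r + n by omega, Nat.add_comm r n, Nat.choose_symm_add]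
  · have hset : {d : Fin (r + 1) →₀ ℕ | Finsupp.weight (fun _ : Fin (r + 1) => (1 : ℤ)) d = e} = ∅ := by
      ext β
      simp only [Set.mem_ofPred_eq, weight_one, Set.mem_empty_iff_false, iff_false]
      intro h
      apply he
      rw [← h]
      exact Int.natCast_nonneg _
    rw [hset]
    simp

instance finite_stdGr (k : Type u) [Field k] (r : ℕ) (e : ℤ) :
    Module.Finite k (GrSyz.stdGr k (Fin (r + 1)) e) := by
  unfold GrSyz.stdGr
  rw [MvPolynomial.weightedHomogeneousSubmodule_eq_finsupp_supported]
  have hfin : Finite {d : Fin (r + 1) →₀ ℕ |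
      Finsupp.weight (fun _ : Fin (r + 1) => (1 : ℤ)) d = e} := by
    by_cases he : 0 ≤ e
    · obtain ⟨n, rfl⟩ := Int.eq_ofNat_of_zero_le he
      have hset : {d : Fin (r + 1) →₀ ℕ |
          Finsupp.weight (fun _ : Fin (r + 1) => (1 : ℤ)) d = (n : ℤ)} =
          ((Finset.univ : Finset (Fin (r + 1))).finsuppAntidiag n : Set (Fin (r + 1) →₀ ℕ)) := by
        ext β
        simp only [Set.mem_ofPred_eq, weight_one, Finset.mem_coe, Finset.mem_finsuppAntidiag,
          Finset.subset_univ, and_true]
        exact_mod_cast Iff.rfl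
      rw [hset]
      exact Finset.finite_toSet _
    · have hset : {d : Fin (r + 1) →₀ ℕ |
          Finsupp.weight (fun _ : Fin (r + 1) => (1 : ℤ)) d = e} = ∅ := by
        ext β
        simp only [Set.mem_ofPred_eq, weight_one, Set.mem_empty_iff_false, iff_false]
        intro h
        apply he
        rw [← h]
        exact Int.natCast_nonneg _
      rw [hset]
      exact Set.finite_empty
  change Module.Finite k (MvPolynomial.restrictSupport k _)
  exact Module.Finite.of_basis (MvPolynomial.basisRestrictSupport k _)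

end Groth.Agent.Helper7.GrSyzHilb
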