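import Mathlib

/-! Euler characteristic of a bounded exact sequence of finite-dimensional spaces. -/

universe u v

namespace Groth.Agent.Helper7.GrSyzHilb

open Module

theorem euler {k : Type u} [Field k] (V : ℕ → Type v) [∀ i, AddCommGroup (V i)]
    [∀ i, Module k (V i)] [∀ i, FiniteDimensional k (V i)]
    (W : Type v) [AddCommGroup W] [Module k W]
    (δ : ∀ i, V (i + 1) →ₗ[k] V i) (ε : V 0 →ₗ[k] W) (hε : Function.Surjective ε)
    (h0 : LinearMap.ker ε = LinearMap.range (δ 0))
    (hs : ∀ i, LinearMap.ker (δ i) = LinearMap.range (δ (i + 1)))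
    (m : ℕ) (hm : ∀ i, m < i → finrank k (V i) = 0) :
    (finrank k W : ℤ) = ∑ i ∈ Finset.range (m + 1), (-1 : ℤ) ^ i * (finrank k (V i) : ℤ) := by
  set c : ℕ → ℕ := fun i => finrank k (LinearMap.range (δ i)) with hc
  have ha0 : finrank k (V 0) = finrank k W + c 0 := by
    have h := LinearMap.finrank_range_add_finrank_ker ε
    rw [LinearMap.range_eq_top.mpr hε, finrank_top, h0] at h
    exact h.symm
  have has : ∀ i, finrank k (V (i + 1)) = c i + c (i + 1) := by
    intro i
    have h := LinearMap.finrank_range_add_finrank_ker (δ i)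
    rw [hs i] at h
    exact h.symm
  have hcm : c m = 0 := by
    have h1 : c m ≤ finrank k (V (m + 1)) := by
      rw [has m]; exact Nat.le_add_right _ _
    rw [hm (m + 1) (Nat.lt_succ_self m)] at h1
    exact Nat.le_zero.mp h1
  have key : ∀ n : ℕ, ∑ i ∈ Finset.range (n + 1), (-1 : ℤ) ^ i * (finrank k (V i) : ℤ) =
      (finrank k W : ℤ) + (-1) ^ n * (c n : ℤ) := by
    intro n
    induction n with
    | zero => simp [ha0]
    | succ n ih =>
      rw [Finset.sum_range_succ, ih, has n]
      push_cast
      ring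
  rw [key m, hcm]
  simp

end Groth.Agent.Helper7.GrSyzHilb
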