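import Groth.Agent.Lib.Helper7.GrSyz.Proj
import Groth.Agent.Lib.Helper7.GrSyz.Euler

/-! Degree strands of a graded free resolution and the Hilbert function. -/

universe u

set_option linter.unusedSectionVars false

open DirectSum Module

namespace Groth.Agent.Helper7.GrSyzHilb

section Strand

variable {k : Type u} [Field k] {R : Type u} [CommRing R] [Algebra k R]
  {𝒜 : ℤ → Submodule k R} [GradedAlgebra 𝒜]
  {M : Type u} [AddCommGroup M] [Module k M] [Module R M] [IsScalarTower k R M]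
  {ℳ : ℤ → Submodule k M} [DirectSum.Decomposition ℳ] [SetLike.GradedSMul 𝒜 ℳ]
  (F : GrSyz.FreeRes 𝒜 ℳ)

/-- the degree `d` strand of the `i`-th term -/
def strand (i : ℕ) (d : ℤ) : Submodule k (Fin (F.rk i) → R) :=
  Submodule.pi Set.univ (fun b => 𝒜 (d - F.deg i b))

theorem mem_strand {i : ℕ} {d : ℤ} {v : Fin (F.rk i) → R} :
    v ∈ strand F i d ↔ ∀ b, v b ∈ 𝒜 (d - F.deg i b) := by
  simp [strand, Submodule.mem_pi]

/-- the projection onto the strand -/
noncomputable def pr (i : ℕ) (d : ℤ) (w : Fin (F.rk i) → R) : Fin (F.rk i) → R :=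
  fun b => cp 𝒜 (d - F.deg i b) (w b)

theorem pr_mem (i : ℕ) (d : ℤ) (w : Fin (F.rk i) → R) : pr F i d w ∈ strand F i d := by
  rw [mem_strand]
  intro b
  exact cp_mem 𝒜 _ _

theorem pr_of_mem {i : ℕ} {d : ℤ} {w : Fin (F.rk i) → R} (hw : w ∈ strand F i d) :
    pr F i d w = w := by
  ext b
  exact cp_of_mem 𝒜 ((mem_strand F).mp hw b)

theorem dLin_pr (i : ℕ) (d : ℤ) (w : Fin (F.rk (i + 1)) → R) :
    F.dLin i (pr F (i + 1) d w) = pr F i d (F.dLin i w) := by
  ext a
  simp only [GrSyz.FreeRes.dLin, Matrix.mulVecLin_apply, Matrix.mulVec, dotProduct, pr]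
  rw [cp_sum]
  apply Finset.sum_congr rfl
  intro b _
  rw [cp_mul_of_left_mem 𝒜 (F.d_mem i a b)]
  congr 2
  ring

theorem augLin_pr (d : ℤ) (w : Fin (F.rk 0) → R) :
    F.augLin (pr F 0 d w) = cpM ℳ d (F.augLin w) := by
  simp only [GrSyz.FreeRes.augLin, Fintype.linearCombination_apply, pr]
  rw [cpM_sum]
  apply Finset.sum_congr rfl
  intro b _
  rw [cpM_smul_of_mem 𝒜 ℳ (F.aug_mem b)]

theorem dLin_mem {i : ℕ} {d : ℤ} {v : Fin (F.rk (i + 1)) → R} (hv : v ∈ strand F (i + 1) d) :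
    F.dLin i v ∈ strand F i d := by
  rw [← pr_of_mem F hv, dLin_pr]
  exact pr_mem F i d _

theorem augLin_mem {d : ℤ} {v : Fin (F.rk 0) → R} (hv : v ∈ strand F 0 d) :
    F.augLin v ∈ ℳ d := by
  rw [← pr_of_mem F hv, augLin_pr]
  exact cpM_mem ℳ d _

/-- the restricted differential -/
noncomputable def δ (d : ℤ) (i : ℕ) : strand F (i + 1) d →ₗ[k] strand F i d :=
  ((F.dLin i).restrictScalars k).restrict (fun _ hv => dLin_mem F hv)

/-- the restricted augmentation -/
noncomputable def ε (d : ℤ) : strand F 0 d →ₗ[k] ℳ d :=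
  ((F.augLin).restrictScalars k).restrict (fun _ hv => augLin_mem F hv)

theorem ε_surjective (d : ℤ) : Function.Surjective (ε F d) := by
  rintro ⟨u, hu⟩
  obtain ⟨w, hw⟩ := F.aug_surjective u
  refine ⟨⟨pr F 0 d w, pr_mem F 0 d w⟩, ?_⟩
  apply Subtype.ext
  change F.augLin (pr F 0 d w) = u
  rw [augLin_pr, show F.augLin w = u from hw, cpM_of_mem ℳ hu]

theorem ker_ε (d : ℤ) : LinearMap.ker (ε F d) = LinearMap.range (δ F d 0) := by
  ext ⟨v, hv⟩
  rw [LinearMap.mem_ker, LinearMap.mem_range]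
  constructor
  · intro h
    have h0 : F.augLin v = 0 := congrArg Subtype.val h
    have hmem : v ∈ LinearMap.ker (Fintype.linearCombination R F.aug) := h0
    rw [F.exact_zero] at hmem
    obtain ⟨w, hw⟩ := hmem
    refine ⟨⟨pr F 1 d w, pr_mem F 1 d w⟩, ?_⟩
    apply Subtype.ext
    change F.dLin 0 (pr F 1 d w) = v
    rw [dLin_pr, show F.dLin 0 w = v from hw, pr_of_mem F hv]
  · rintro ⟨⟨w, hw⟩, h⟩
    have h1 : F.dLin 0 w = v := congrArg Subtype.val h
    apply Subtype.ext
    change F.augLin v = 0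
    have hmem : v ∈ LinearMap.range (Matrix.mulVecLin (F.d 0)) := ⟨w, h1⟩
    rw [← F.exact_zero] at hmem
    exact hmem

theorem ker_δ (d : ℤ) (i : ℕ) : LinearMap.ker (δ F d i) = LinearMap.range (δ F d (i + 1)) := by
  ext ⟨v, hv⟩
  rw [LinearMap.mem_ker, LinearMap.mem_range]
  constructor
  · intro h
    have h0 : F.dLin i v = 0 := congrArg Subtype.val h
    have hmem : v ∈ LinearMap.ker (Matrix.mulVecLin (F.d i)) := h0
    rw [F.exact_succ] at hmem
    obtain ⟨w, hw⟩ := hmem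
    refine ⟨⟨pr F (i + 2) d w, pr_mem F (i + 2) d w⟩, ?_⟩
    apply Subtype.ext
    change F.dLin (i + 1) (pr F (i + 2) d w) = v
    rw [dLin_pr, show F.dLin (i + 1) w = v from hw, pr_of_mem F hv]
  · rintro ⟨⟨w, hw⟩, h⟩
    have h1 : F.dLin (i + 1) w = v := congrArg Subtype.val h
    apply Subtype.ext
    change F.dLin i v = 0
    have hmem : v ∈ LinearMap.range (Matrix.mulVecLin (F.d (i + 1))) := ⟨w, h1⟩
    rw [← F.exact_succ] at hmem
    exact hmem

/-- the strand is a product of graded pieces -/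
noncomputable def strandEquiv (i : ℕ) (d : ℤ) :
    strand F i d ≃ₗ[k] (∀ b : Fin (F.rk i), 𝒜 (d - F.deg i b)) where
  toFun v := fun b => ⟨v.1 b, (mem_strand F).mp v.2 b⟩
  invFun w := ⟨fun b => (w b : R), (mem_strand F).mpr fun b => (w b).2⟩
  map_add' _ _ := rfl
  map_smul' _ _ := rfl
  left_inv _ := rfl
  right_inv _ := rfl

variable [∀ e, Module.Finite k (𝒜 e)]

instance (i : ℕ) (d : ℤ) : Module.Finite k (strand F i d) :=
  Module.Finite.equiv (strandEquiv F i d).symm

theorem finrank_strand (i : ℕ) (d : ℤ) :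
    finrank k (strand F i d) = ∑ b : Fin (F.rk i), finrank k (𝒜 (d - F.deg i b)) := by
  rw [LinearEquiv.finrank_eq (strandEquiv F i d), Module.finrank_pi_fintype]

/-- the Hilbert function from a finite graded free resolution -/
theorem hilbert (m : ℕ) (hF : F.HasLengthLE m) (d : ℤ) :
    (finrank k (ℳ d) : ℤ) = ∑ i ∈ Finset.range (m + 1), (-1 : ℤ) ^ i *
      ∑ b : Fin (F.rk i), (finrank k (𝒜 (d - F.deg i b)) : ℤ) := by
  have h := euler (k := k) (fun i => strand F i d) (ℳ d) (δ F d) (ε F d) (ε_surjective F d)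
    (ker_ε F d) (ker_δ F d) m (by
      intro i hi
      rw [finrank_strand]
      have : F.rk i = 0 := hF i hi
      apply Finset.sum_eq_zero
      intro b _
      exact absurd b.2 (by omega))
  rw [h]
  apply Finset.sum_congr rfl
  intro i _
  rw [finrank_strand]
  push_cast
  rfl

end Strand

end Groth.Agent.Helper7.GrSyzHilb
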