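import Groth.Prelude.Def_GrSyz
import Mathlib

/-! Regrouping sums over basis vectors by degree via Betti numbers (S15437). -/

universe u

namespace Groth.Agent.Helper7.GrSyzHilb

section

variable {R : Type u} [CommRing R] {σ' : Type u} [SetLike σ' R] [AddSubgroupClass σ' R]
  {𝒜 : ℤ → σ'} [GradedRing 𝒜]
  {M : Type u} [AddCommGroup M] [Module R M] {τ : Type u} [SetLike τ M] [AddSubgroupClass τ M]
  {ℳ : ℤ → τ} [DirectSum.Decomposition ℳ] [SetLike.GradedSMul 𝒜 ℳ] (F : GrSyz.FreeRes 𝒜 ℳ)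

/-- all the generator degrees of the first `m + 1` terms -/
noncomputable def degs (m : ℕ) : Finset ℤ :=
  (Finset.range (m + 1)).biUnion fun i => Finset.univ.image (F.deg i)

theorem betti_eq_zero {m i : ℕ} (hi : i ∈ Finset.range (m + 1)) {j : ℤ} (hj : j ∉ degs F m) :
    F.betti i j = 0 := by
  unfold GrSyz.FreeRes.betti
  rw [Finset.card_eq_zero, Finset.filter_eq_empty_iff]
  intro b _ hb
  apply hj
  unfold degs
  rw [Finset.mem_biUnion]
  exact ⟨i, hi, Finset.mem_image.mpr ⟨b, Finset.mem_univ _, hb⟩⟩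

theorem sum_betti_mul {m i : ℕ} (hi : i ∈ Finset.range (m + 1)) (T : Finset ℤ)
    (hT : degs F m ⊆ T) (g : ℤ → ℤ) :
    ∑ j ∈ T, (F.betti i j : ℤ) * g j = ∑ b : Fin (F.rk i), g (F.deg i b) := by
  have hmaps : ∀ b ∈ (Finset.univ : Finset (Fin (F.rk i))), F.deg i b ∈ T := by
    intro b _
    apply hT
    unfold degs
    rw [Finset.mem_biUnion]
    exact ⟨i, hi, Finset.mem_image.mpr ⟨b, Finset.mem_univ _, rfl⟩⟩
  rw [← Finset.sum_fiberwise_of_maps_to hmaps (fun b => g (F.deg i b))]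
  apply Finset.sum_congr rfl
  intro j _
  unfold GrSyz.FreeRes.betti
  rw [Finset.sum_congr rfl (fun b hb => by rw [(Finset.mem_filter.mp hb).2] :
    ∀ b ∈ Finset.univ.filter (fun b => F.deg i b = j), g (F.deg i b) = g j)]
  rw [Finset.sum_const, nsmul_eq_mul]

/-- alternating Betti numbers -/
noncomputable def B (m : ℕ) (j : ℤ) : ℤ :=
  ∑ i ∈ Finset.range (m + 1), (-1 : ℤ) ^ i * (F.betti i j : ℤ)

theorem B_eq_zero {m : ℕ} {j : ℤ} (hj : j ∉ degs F m) : B F m j = 0 := by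
  unfold B
  apply Finset.sum_eq_zero
  intro i hi
  rw [betti_eq_zero F hi hj]
  simp

theorem sum_B_mul (m : ℕ) (T : Finset ℤ) (hT : degs F m ⊆ T) (g : ℤ → ℤ) :
    ∑ j ∈ T, B F m j * g j =
      ∑ i ∈ Finset.range (m + 1), (-1 : ℤ) ^ i * ∑ b : Fin (F.rk i), g (F.deg i b) := by
  unfold B
  simp_rw [Finset.sum_mul]
  rw [Finset.sum_comm]
  apply Finset.sum_congr rfl
  intro i hi
  rw [← sum_betti_mul F hi T hT g, Finset.mul_sum]
  apply Finset.sum_congr rfl
  intro j _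
  ring

theorem finsum_B_mul (m : ℕ) (g : ℤ → ℤ) :
    ∑ᶠ j : ℤ, B F m j * g j =
      ∑ i ∈ Finset.range (m + 1), (-1 : ℤ) ^ i * ∑ b : Fin (F.rk i), g (F.deg i b) := by
  rw [← sum_B_mul F m (degs F m) (Finset.Subset.refl _) g]
  apply finsum_eq_sum_of_support_subset
  intro j hj
  rw [Function.mem_support] at hj
  by_contra hjT
  apply hj
  rw [B_eq_zero F (by simpa using hjT), zero_mul]

end

end Groth.Agent.Helper7.GrSyzHilb
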