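import Mathlib

/-! The binomial coefficient `C(x + r, r)` as a polynomial in `x` (for S15429). -/

namespace Groth.Agent.Helper7.GrSyzHilb

open Polynomial

/-- the polynomial `C(x + r, r)` -/
noncomputable def binomPoly (r : ℕ) : ℚ[X] :=
  C ((r.factorial : ℚ)⁻¹) * (descPochhammer ℚ r).comp (X + C (r : ℚ))

theorem binomPoly_eval (r : ℕ) (e : ℤ) (he : -(r : ℤ) ≤ e) :
    (binomPoly r).eval (e : ℚ) =
      (if 0 ≤ e then ((Nat.choose (r + e.toNat) r : ℕ) : ℤ) else 0 : ℤ) := by
  obtain ⟨k, hk⟩ : ∃ k : ℕ, e + r = k := ⟨(e + r).toNat, by omega⟩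
  have hk' : (e : ℚ) + (r : ℚ) = (k : ℚ) := by exact_mod_cast hk
  have h1 : (binomPoly r).eval (e : ℚ) = (k.choose r : ℚ) := by
    unfold binomPoly
    rw [eval_mul, eval_C, eval_comp, eval_add, eval_X, eval_C, hk',
      Nat.cast_choose_eq_descPochhammer_div (K := ℚ) k r]
    field_simp
  rw [h1]
  split_ifs with h0
  · obtain ⟨n, rfl⟩ := Int.eq_ofNat_of_zero_le h0
    have : k = r + n := by omega
    subst this
    simp
  · have : k < r := by omega
    rw [Nat.choose_eq_zero_of_lt this]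
    simp

end Groth.Agent.Helper7.GrSyzHilb
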