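import Groth.Prelude.Def_GrSyz
import Mathlib

/-! Homogeneous components and graded free resolutions: the strands (S15428 etc.). -/

universe u

open DirectSum

namespace Groth.Agent.Helper7.GrSyzHilb

section Graded

variable {k : Type u} [Field k] {R : Type u} [CommRing R] [Algebra k R]
  (𝒜 : ℤ → Submodule k R) [GradedAlgebra 𝒜]
  {M : Type u} [AddCommGroup M] [Module k M] [Module R M]
  (ℳ : ℤ → Submodule k M) [DirectSum.Decomposition ℳ] [SetLike.GradedSMul 𝒜 ℳ]

/-- the homogeneous component of degree `e` -/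
noncomputable def cp (e : ℤ) (x : R) : R := (decompose 𝒜 x e : R)

/-- the homogeneous component of degree `e` of a module element -/
noncomputable def cpM (e : ℤ) (x : M) : M := (decompose ℳ x e : M)

theorem cp_mem (e : ℤ) (x : R) : cp 𝒜 e x ∈ 𝒜 e := (decompose 𝒜 x e).2

theorem cpM_mem (e : ℤ) (x : M) : cpM ℳ e x ∈ ℳ e := (decompose ℳ x e).2

theorem cp_add (e : ℤ) (x y : R) : cp 𝒜 e (x + y) = cp 𝒜 e x + cp 𝒜 e y := by
  simp [cp, decompose_add]

theorem cp_zero (e : ℤ) : cp 𝒜 e 0 = 0 := by simp [cp]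

theorem cpM_add (e : ℤ) (x y : M) : cpM ℳ e (x + y) = cpM ℳ e x + cpM ℳ e y := by
  simp [cpM, decompose_add]

theorem cpM_zero (e : ℤ) : cpM ℳ e 0 = 0 := by simp [cpM]

theorem cp_sum {ι : Type*} (s : Finset ι) (f : ι → R) (e : ℤ) :
    cp 𝒜 e (∑ i ∈ s, f i) = ∑ i ∈ s, cp 𝒜 e (f i) := by
  classical
  induction s using Finset.induction_on with
  | empty => simp [cp_zero]
  | insert a s ha ih => rw [Finset.sum_insert ha, Finset.sum_insert ha, cp_add, ih]

theorem cpM_sum {ι : Type*} (s : Finset ι) (f : ι → M) (e : ℤ) :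
    cpM ℳ e (∑ i ∈ s, f i) = ∑ i ∈ s, cpM ℳ e (f i) := by
  classical
  induction s using Finset.induction_on with
  | empty => simp [cpM_zero]
  | insert a s ha ih => rw [Finset.sum_insert ha, Finset.sum_insert ha, cpM_add, ih]

theorem cp_of_mem {e : ℤ} {x : R} (hx : x ∈ 𝒜 e) : cp 𝒜 e x = x :=
  decompose_of_mem_same 𝒜 hx

theorem cp_of_mem_ne {e e' : ℤ} {x : R} (hx : x ∈ 𝒜 e) (h : e ≠ e') : cp 𝒜 e' x = 0 :=
  decompose_of_mem_ne 𝒜 hx h

theorem cpM_of_mem {e : ℤ} {x : M} (hx : x ∈ ℳ e) : cpM ℳ e x = x :=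
  decompose_of_mem_same ℳ hx

theorem cpM_of_mem_ne {e e' : ℤ} {x : M} (hx : x ∈ ℳ e) (h : e ≠ e') : cpM ℳ e' x = 0 :=
  decompose_of_mem_ne ℳ hx h

/-- multiplying by a homogeneous element on the left shifts components -/
theorem cp_mul_of_left_mem {n : ℤ} {a : R} (ha : a ∈ 𝒜 n) (x : R) (d : ℤ) :
    cp 𝒜 d (a * x) = a * cp 𝒜 (d - n) x := by
  have h := coe_decompose_mul_add_of_left_mem 𝒜 (i := n) (j := d - n) (b := x) ha
  rw [show n + (d - n) = d by ring] at h
  exact h

/-- acting on a homogeneous module element shifts components -/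
theorem cpM_smul_of_mem {j : ℤ} {u : M} (hu : u ∈ ℳ j) (x : R) (d : ℤ) :
    cpM ℳ d (x • u) = cp 𝒜 (d - j) x • u := by
  classical
  have hx : x = ∑ e ∈ (decompose 𝒜 x).support, (decompose 𝒜 x e : R) :=
    (sum_support_decompose 𝒜 x).symm
  conv_lhs => rw [hx, Finset.sum_smul, cpM_sum]
  have hterm : ∀ e ∈ (decompose 𝒜 x).support,
      cpM ℳ d ((decompose 𝒜 x e : R) • u) = if e = d - j then cp 𝒜 (d - j) x • u else 0 := by
    intro e _
    have hmem : (decompose 𝒜 x e : R) • u ∈ ℳ (e + j) :=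
      SetLike.GradedSMul.smul_mem (decompose 𝒜 x e).2 hu
    split_ifs with h
    · subst h
      have : d - j + j = d := by ring
      rw [this] at hmem
      rw [cpM_of_mem ℳ hmem]
      rfl
    · apply cpM_of_mem_ne ℳ hmem
      intro h'
      apply h
      omega
  rw [Finset.sum_congr rfl hterm, Finset.sum_ite_eq']
  split_ifs with h
  · rfl
  · rw [DFinsupp.notMem_support_iff] at h
    have : cp 𝒜 (d - j) x = 0 := by
      unfold cp
      rw [h]
      rfl
    rw [this, zero_smul]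

end Graded

end Groth.Agent.Helper7.GrSyzHilb
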